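import Cfsg.Agent.H514.DP.Core

/-!
# Commutators with a diagonal automorphism in `SL_2(F)` (S2454, piece X1, helper175)

* `dc μ g` : conjugation by `diag(μ, 1)`;
* `exists_comm` : every non-scalar `y` is `s * (dc μ g * g⁻¹) * s⁻¹`, `μ ≠ 1`;
* `pe_node` : if `z` acts on the image of `SL_2(F)` as `dc μ` and is a product of `m` `p`-elements, then every non-scalar
  element of the image is a product of `2 m` `p`-elements.
-/

set_option autoImplicit false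

open Matrix
open scoped MatrixGroups

namespace Cfsg.Agent.H175.DP

open Cfsg.Agent.H514.DP

variable {F : Type*} [Field F]

theorem sl_ext {A B : SL(2, F)} (h : (A : Matrix (Fin 2) (Fin 2) F) = (B : Matrix (Fin 2) (Fin 2) F)) : A = B :=
  Subtype.ext h

theorem sl_mul (A B : SL(2, F)) : ((A * B : SL(2, F)) : Matrix (Fin 2) (Fin 2) F) =
    (A : Matrix (Fin 2) (Fin 2) F) * (B : Matrix (Fin 2) (Fin 2) F) := rfl

/-- conjugation by `diag(μ, 1)` -/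
def dc (μ : Fˣ) (g : SL(2, F)) : SL(2, F) :=
  ⟨!![(g : Matrix (Fin 2) (Fin 2) F) 0 0, (μ : F) * (g : Matrix (Fin 2) (Fin 2) F) 0 1;
      ((μ⁻¹ : Fˣ) : F) * (g : Matrix (Fin 2) (Fin 2) F) 1 0, (g : Matrix (Fin 2) (Fin 2) F) 1 1], by
    have h := g.2
    rw [Matrix.det_fin_two] at h
    rw [Matrix.det_fin_two_of]
    have h1 : (μ : F) * ((μ⁻¹ : Fˣ) : F) = 1 := Units.mul_inv μ
    linear_combination h + (g : Matrix (Fin 2) (Fin 2) F) 0 1 * (g : Matrix (Fin 2) (Fin 2) F) 1 0 * (-h1)⟩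

theorem coe_dc (μ : Fˣ) (g : SL(2, F)) : (dc μ g : Matrix (Fin 2) (Fin 2) F) =
    !![(g : Matrix (Fin 2) (Fin 2) F) 0 0, (μ : F) * (g : Matrix (Fin 2) (Fin 2) F) 0 1;
      ((μ⁻¹ : Fˣ) : F) * (g : Matrix (Fin 2) (Fin 2) F) 1 0, (g : Matrix (Fin 2) (Fin 2) F) 1 1] := rfl

/-- the matrix `diag(μ, 1)` -/
def dm (μ : F) : Matrix (Fin 2) (Fin 2) F := !![μ, 0; 0, 1]

theorem det_dm (μ : F) : (dm μ).det = μ := by
  rw [dm, Matrix.det_fin_two_of]; ring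

theorem dm_mul_dc (μ : Fˣ) (g : SL(2, F)) :
    dm (μ : F) * (g : Matrix (Fin 2) (Fin 2) F) = (dc μ g : Matrix (Fin 2) (Fin 2) F) * dm (μ : F) := by
  have h1 : (μ : F) * ((μ⁻¹ : Fˣ) : F) = 1 := Units.mul_inv μ
  rw [coe_dc, dm, Matrix.eta_fin_two (g : Matrix (Fin 2) (Fin 2) F)]
  ext i j
  fin_cases i <;> fin_cases j <;> simp [Matrix.mul_apply, Fin.sum_univ_two] <;> field_simp

theorem dm_mul_injective {μ : F} (hμ : μ ≠ 0) {A B : Matrix (Fin 2) (Fin 2) F} (h : A * dm μ = B * dm μ) : A = B := by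
  have h1 : IsUnit (dm μ) := by
    rw [Matrix.isUnit_iff_isUnit_det, det_dm]
    exact isUnit_iff_ne_zero.2 hμ
  exact h1.mul_right_cancel h

/-- `dc μ` as a homomorphism -/
def dcHom (μ : Fˣ) : SL(2, F) →* SL(2, F) where
  toFun := dc μ
  map_one' := by
    apply Subtype.ext
    rw [coe_dc]
    ext i j
    fin_cases i <;> fin_cases j <;> simp
  map_mul' g h := by
    apply sl_ext
    apply dm_mul_injective μ.ne_zero
    rw [← dm_mul_dc, sl_mul, sl_mul, Matrix.mul_assoc, ← dm_mul_dc,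
      ← Matrix.mul_assoc, dm_mul_dc, Matrix.mul_assoc]

@[simp] theorem dcHom_apply (μ : Fˣ) (g : SL(2, F)) : dcHom μ g = dc μ g := rfl

theorem dc_mul (μ : Fˣ) (g h : SL(2, F)) : dc μ (g * h) = dc μ g * dc μ h := map_mul (dcHom μ) g h

theorem dc_inv (μ : Fˣ) (g : SL(2, F)) : dc μ g⁻¹ = (dc μ g)⁻¹ := map_inv (dcHom μ) g

theorem dc_dc (μ ν : Fˣ) (g : SL(2, F)) : dc μ (dc ν g) = dc ν (dc μ g) := by
  apply Subtype.ext
  rw [coe_dc, coe_dc, coe_dc, coe_dc]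
  ext i j
  fin_cases i <;> fin_cases j <;> simp <;> ring

/-- a non-scalar matrix of determinant `1` is similar to a companion matrix -/
theorem exists_companion (y : SL(2, F)) (hy : ∀ c : F, (y : Matrix (Fin 2) (Fin 2) F) ≠ c • (1 : Matrix (Fin 2) (Fin 2) F)) :
    ∃ P : Matrix (Fin 2) (Fin 2) F, P.det ≠ 0 ∧ (y : Matrix (Fin 2) (Fin 2) F) * P =
      P * !![0, -1; 1, (y : Matrix (Fin 2) (Fin 2) F).trace] := by
  have hd := y.2
  generalize (y : Matrix (Fin 2) (Fin 2) F) = A at *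
  have key : ∀ v0 v1 : F, A * !![v0, A 0 0 * v0 + A 0 1 * v1; v1, A 1 0 * v0 + A 1 1 * v1] =
      !![v0, A 0 0 * v0 + A 0 1 * v1; v1, A 1 0 * v0 + A 1 1 * v1] * !![0, -1; 1, A.trace] := by
    intro v0 v1
    rw [Matrix.det_fin_two] at hd
    rw [Matrix.trace_fin_two]
    ext i j
    fin_cases i <;> fin_cases j <;> simp [Matrix.mul_apply, Fin.sum_univ_two]
    · linear_combination -v0 * hd
    · linear_combination -v1 * hd
  by_cases h10 : A 1 0 = 0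
  · by_cases h01 : A 0 1 = 0
    · refine ⟨_, ?_, key 1 1⟩
      rw [Matrix.det_fin_two_of, h10, h01]
      intro h
      apply hy (A 0 0)
      have h2 : A 1 1 = A 0 0 := by linear_combination h
      ext i j
      fin_cases i <;> fin_cases j <;> simp [h10, h01, h2]
    · refine ⟨_, ?_, key 0 1⟩
      rw [Matrix.det_fin_two_of]
      intro h
      apply h01
      linear_combination -h
  · refine ⟨_, ?_, key 1 0⟩
    rw [Matrix.det_fin_two_of]
    intro h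
    apply h10
    linear_combination h

/-- non-scalar elements of `SL_2(F)` with the same trace -/
theorem exists_conj (x y : SL(2, F)) (hx : ∀ c : F, (x : Matrix (Fin 2) (Fin 2) F) ≠ c • (1 : Matrix (Fin 2) (Fin 2) F))
    (hy : ∀ c : F, (y : Matrix (Fin 2) (Fin 2) F) ≠ c • (1 : Matrix (Fin 2) (Fin 2) F))
    (h : (x : Matrix (Fin 2) (Fin 2) F).trace = (y : Matrix (Fin 2) (Fin 2) F).trace) :
    ∃ (δ : Fˣ) (s : SL(2, F)), y = s * dc δ x * s⁻¹ := by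
  obtain ⟨P, hP, h1⟩ := exists_companion y hy
  obtain ⟨Q, hQ, h2⟩ := exists_companion x hx
  rw [h] at h2
  set C : Matrix (Fin 2) (Fin 2) F := !![0, -1; 1, (y : Matrix (Fin 2) (Fin 2) F).trace] with hC
  have hQu : IsUnit Q.det := isUnit_iff_ne_zero.2 hQ
  have hPu : IsUnit P.det := isUnit_iff_ne_zero.2 hP
  -- `H = P Q⁻¹`
  set H := P * Q⁻¹ with hH
  have h3 : (y : Matrix (Fin 2) (Fin 2) F) * H = H * (x : Matrix (Fin 2) (Fin 2) F) := by
    have h4 : (x : Matrix (Fin 2) (Fin 2) F) = Q * C * Q⁻¹ := by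
      rw [← h2, Matrix.mul_assoc, Matrix.mul_nonsing_inv _ hQu, Matrix.mul_one]
    rw [h4, hH, ← Matrix.mul_assoc, h1]
    simp only [Matrix.mul_assoc]
    rw [← Matrix.mul_assoc Q⁻¹ Q, Matrix.nonsing_inv_mul _ hQu, Matrix.one_mul]
  have hHd : H.det ≠ 0 := by
    rw [hH, Matrix.det_mul, Matrix.det_nonsing_inv]
    exact mul_ne_zero hP (by rw [Ring.inverse_eq_inv]; exact inv_ne_zero hQ)
  let δ : Fˣ := Units.mk0 H.det hHd
  have hδ : (δ : F) = H.det := rfl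
  have hdd : dm ((δ⁻¹ : Fˣ) : F) * dm (δ : F) = 1 := by
    have h5 : ((δ⁻¹ : Fˣ) : F) * (δ : F) = 1 := Units.inv_mul δ
    rw [dm, dm]
    ext i j
    fin_cases i <;> fin_cases j <;> simp
  let s : SL(2, F) := ⟨H * dm ((δ⁻¹ : Fˣ) : F), by
    rw [Matrix.det_mul, det_dm, ← hδ]; exact Units.mul_inv δ⟩
  have hs : (s : Matrix (Fin 2) (Fin 2) F) * dm (δ : F) = H := by
    change H * dm ((δ⁻¹ : Fˣ) : F) * dm (δ : F) = H
    rw [Matrix.mul_assoc, hdd, Matrix.mul_one]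
  refine ⟨δ, s, ?_⟩
  rw [eq_mul_inv_iff_mul_eq]
  apply sl_ext
  apply dm_mul_injective δ.ne_zero
  calc ((y * s : SL(2, F)) : Matrix (Fin 2) (Fin 2) F) * dm (δ : F)
      = (y : Matrix (Fin 2) (Fin 2) F) * ((s : Matrix (Fin 2) (Fin 2) F) * dm (δ : F)) := Matrix.mul_assoc _ _ _
    _ = H * (x : Matrix (Fin 2) (Fin 2) F) := by rw [hs, h3]
    _ = (s : Matrix (Fin 2) (Fin 2) F) * (dm (δ : F) * (x : Matrix (Fin 2) (Fin 2) F)) := by rw [← Matrix.mul_assoc, hs]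
    _ = (s : Matrix (Fin 2) (Fin 2) F) * ((dc δ x : Matrix (Fin 2) (Fin 2) F) * dm (δ : F)) := by rw [dm_mul_dc]
    _ = ((s * dc δ x : SL(2, F)) : Matrix (Fin 2) (Fin 2) F) * dm (δ : F) := (Matrix.mul_assoc _ _ _).symm

/-- **every non-scalar element is a conjugate of a commutator with `diag(μ, 1)`** -/
theorem exists_comm (μ : Fˣ) (hμ : μ ≠ 1) (y : SL(2, F))
    (hy : ∀ c : F, (y : Matrix (Fin 2) (Fin 2) F) ≠ c • (1 : Matrix (Fin 2) (Fin 2) F)) :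
    ∃ g s : SL(2, F), y = s * (dc μ g * g⁻¹) * s⁻¹ := by
  have hμ1 : (μ : F) - 1 ≠ 0 := sub_ne_zero.2 fun h => hμ (Units.ext h)
  have hμ0 : (μ : F) ≠ 0 := μ.ne_zero
  -- the parameter
  set κ : F := -((y : Matrix (Fin 2) (Fin 2) F).trace - 2) * μ / ((μ : F) - 1) ^ 2 with hκ
  let g : SL(2, F) := ⟨!![1, 1; κ, 1 + κ], by rw [Matrix.det_fin_two_of]; ring⟩
  have hx : ((dc μ g * g⁻¹ : SL(2, F)) : Matrix (Fin 2) (Fin 2) F) =
      !![1 + κ - μ * κ, (μ : F) - 1; ((μ : F)⁻¹ - 1) * (κ * (1 + κ)), 1 + κ - (μ : F)⁻¹ * κ] := by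
    change !![(!![1, 1; κ, 1 + κ] : Matrix (Fin 2) (Fin 2) F) 0 0, (μ : F) * (!![1, 1; κ, 1 + κ] : Matrix (Fin 2) (Fin 2) F) 0 1;
      ((μ⁻¹ : Fˣ) : F) * (!![1, 1; κ, 1 + κ] : Matrix (Fin 2) (Fin 2) F) 1 0,
      (!![1, 1; κ, 1 + κ] : Matrix (Fin 2) (Fin 2) F) 1 1] * adjugate !![1, 1; κ, 1 + κ] = _
    rw [Matrix.adjugate_fin_two_of]
    ext i j
    fin_cases i <;> fin_cases j <;> simp [Matrix.mul_apply, Fin.sum_univ_two] <;> ring
  have hns : ∀ c : F, ((dc μ g * g⁻¹ : SL(2, F)) : Matrix (Fin 2) (Fin 2) F) ≠ c • (1 : Matrix (Fin 2) (Fin 2) F) := by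
    intro c hc
    have h1 := congrFun (congrFun hc 0) 1
    rw [hx] at h1
    simp at h1
    exact hμ1 h1
  have htr : ((dc μ g * g⁻¹ : SL(2, F)) : Matrix (Fin 2) (Fin 2) F).trace = (y : Matrix (Fin 2) (Fin 2) F).trace := by
    rw [hx, Matrix.trace_fin_two_of, hκ]
    field_simp
    ring
  obtain ⟨δ, s, h⟩ := exists_conj _ y hns hy htr
  refine ⟨dc δ g, s, ?_⟩
  rw [h, dc_mul, dc_inv, dc_dc]

/-- **nodes** : the commutator trick -/
theorem pe_node {Y : Type*} [Group Y] (φ : SL(2, F) →* Y) {z : Y} {μ : Fˣ} (hμ : μ ≠ 1)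
    (hz : ∀ g, z * φ g * z⁻¹ = φ (dc μ g)) {p m : ℕ} (hm : PE p m z) {y : SL(2, F)}
    (hy : ∀ c : F, (y : Matrix (Fin 2) (Fin 2) F) ≠ c • (1 : Matrix (Fin 2) (Fin 2) F)) : PE p (2 * m) (φ y) := by
  obtain ⟨g, s, h⟩ := exists_comm μ hμ y hy
  have h1 : φ y = φ s * (z * (φ g * z⁻¹ * (φ g)⁻¹)) * (φ s)⁻¹ := by
    rw [h, map_mul, map_mul, map_mul, map_inv, map_inv, ← hz]
    simp only [mul_assoc]
  rw [h1, two_mul]
  exact (hm.mul (hm.inv.conj (φ g))).conj (φ s)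

end Cfsg.Agent.H175.DP
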