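import Cfsg.Agent.H53.HC.Prod
import Cfsg.Agent.Nodes.RGDLib

/-!
# Minimal sets of nodes with `p ∣ |M_J|` (S2454, piece X3, helper175)

`exists_min` : in a group generated by the root groups of a root group datum, for every prime `p ∣ |Y|` there is a set `J`
of nodes, minimal with `p ∣ |M_J|`; it is connected.
-/

set_option autoImplicit false

namespace Cfsg.Agent.H175.DP

open CoxeterSystem Cfsg.Agent.ChevalleyStructure.CoxeterGeom Cfsg.Agent.Tits.Roots Cfsg.Agent.Tits.Core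
  Cfsg.Agent.Tits.Exchange Cfsg.Agent.Nodes.Reps Cfsg.Agent.Nodes.BNOf Cfsg.Agent.Nodes.StabComb
  Cfsg.Agent.Nodes.Bruhat Cfsg.Agent.Nodes.OppDec Cfsg.Agent.Nodes.LeviDec Cfsg.Agent.H53.HC

theorem card_sup_dvd {G : Type*} [Group G] {H K : Subgroup G} (hc : ∀ a ∈ H, ∀ b ∈ K, a * b = b * a) :
    Nat.card ↥(H ⊔ K) ∣ Nat.card H * Nat.card K := by
  have hcm : ∀ (a : H) (b : K), Commute (H.subtype a) (K.subtype b) := fun a b => hc a a.2 b b.2
  let f : H × K →* G := MonoidHom.noncommCoprod H.subtype K.subtype hcm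
  have h1 : f.range = H ⊔ K := by
    change (MonoidHom.noncommCoprod H.subtype K.subtype hcm).range = H ⊔ K
    rw [MonoidHom.noncommCoprod_range, Subgroup.range_subtype, Subgroup.range_subtype]
  rw [← h1, ← Nat.card_prod]
  exact Subgroup.card_range_dvd f

variable {I W Y : Type*} [Fintype I] [DecidableEq I] [Group W] [Group Y] {M : CoxeterMatrix I}
  {cs : CoxeterSystem M W} {A : I → I → ℤ} {h : IsCartan M A} {r : ℕ} {T : Subgroup Y} {n : I → Y}
  {X : (I → ℤ) → Subgroup Y}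

theorem MJ_univ : MJ cs h X Set.univ = Nodes.RGDLib.G1 cs h X := by
  unfold MJ Nodes.RGDLib.G1
  congr 1
  ext x
  exact ⟨fun hx => hx.1, fun hx => ⟨hx, fun k hk => (hk (Set.mem_univ k)).elim⟩⟩

theorem MJ_empty : MJ cs h X ∅ = ⊥ := by
  unfold MJ
  rw [eq_bot_iff]
  refine RGD.Sup_le fun x hx => ?_
  obtain ⟨i, hi, -⟩ := exists_ne_zero hx
  exact hi.elim

omit [Fintype I] [DecidableEq I] in
theorem orth_of {M : CoxeterMatrix I} {A : I → I → ℤ} (h : IsCartan M A) {K K' : Set I}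
    (hd : ∀ a ∈ K, ∀ b ∈ K', a ≠ b ∧ M a b = 2) : Orth A K K' := by
  intro i hi j hj
  obtain ⟨h1, h2⟩ := hd i hi j hj
  rcases h.rel i j h1 with h3 | h3 | h3 | h3
  · exact ⟨h1, h3.2⟩
  all_goals
    exfalso
    have := h3.1
    omega

/-- **A minimal set of nodes with `p ∣ |M_J|`.** -/
theorem exists_min [Finite Y] [Finite W] [Fact r.Prime] (R : RGD cs h r T n X)
    (hG : Nodes.RGDLib.G1 cs h X = ⊤) {p : ℕ} (hp : p.Prime) (hd : p ∣ Nat.card Y) :
    ∃ J : Set I, J.Nonempty ∧ p ∣ Nat.card (MJ cs h X J) ∧ (∀ K, K ⊂ J → ¬ p ∣ Nat.card (MJ cs h X K)) ∧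
      (∀ K ⊆ J, K.Nonempty → K ≠ J → ∃ a ∈ K, ∃ b ∈ J, b ∉ K ∧ M a b ≠ 2) := by
  let S : Set (Set I) := {J | p ∣ Nat.card (MJ cs h X J)}
  have hne : S.Nonempty := ⟨Set.univ, by
    change p ∣ Nat.card (MJ cs h X Set.univ)
    rw [MJ_univ, hG, Subgroup.card_top]
    exact hd⟩
  have hwf : WellFounded ((· < ·) : Set I → Set I → Prop) := wellFounded_lt
  obtain ⟨J, hJ, hmin⟩ := hwf.has_min S hne
  have hJ' : p ∣ Nat.card (MJ cs h X J) := hJ
  have hmin' : ∀ K, K ⊂ J → ¬ p ∣ Nat.card (MJ cs h X K) := fun K hK hd => hmin K hd hK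
  refine ⟨J, ?_, hJ', hmin', ?_⟩
  · rw [Set.nonempty_iff_ne_empty]
    rintro rfl
    rw [MJ_empty, Subgroup.card_bot] at hJ'
    exact hp.one_lt.ne' (Nat.dvd_one.1 hJ')
  · intro K hK hKne hKJ
    by_contra hcon
    push Not at hcon
    have ho : Orth A K (J \ K) := orth_of h fun a ha b hb => ⟨fun e => hb.2 (e ▸ ha), hcon a ha b hb.1 hb.2⟩
    have h1 : K ∪ J \ K = J := Set.union_sdiff_cancel hK
    have h2 := Orth.MJ_union (cs := cs) (h := h) (X := X) ho
    rw [h1] at h2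
    have h3 := card_sup_dvd (Orth.comm R ho)
    rw [← h2] at h3
    rcases (hp.dvd_mul).1 (hJ'.trans h3) with h4 | h4
    · exact hmin' K (Set.ssubset_iff_subset_ne.2 ⟨hK, hKJ⟩) h4
    · refine hmin' (J \ K) (Set.ssubset_iff_subset_ne.2 ⟨Set.sdiff_subset, fun e => ?_⟩) h4
      obtain ⟨a, ha⟩ := hKne
      have : a ∈ J \ K := by rw [e]; exact hK ha
      exact this.2 ha

end Cfsg.Agent.H175.DP
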