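import Mathlib

/-!
# `SL_3(2)` and elements of order three (S2454, piece X4, helper175)

`exists_three` : in characteristic two, for `t = 0, 1`, the element `[[-t, 1, 0], [-1, 0, 0], [0, 0, 1]]` of `SL_3(F)` is
`z * (w * z⁻¹ * w⁻¹)` with `z` of order three.
-/

set_option autoImplicit false

open Matrix
open scoped MatrixGroups

namespace Cfsg.Agent.H175.DP

section corner

variable {F : Type*} [Field F]

/-- the upper left corner `SL_2(F) → SL_3(F)` -/
def corner (F : Type*) [Field F] : SL(2, F) →* SL(3, F) where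
  toFun g := ⟨!![(g : Matrix (Fin 2) (Fin 2) F) 0 0, (g : Matrix (Fin 2) (Fin 2) F) 0 1, 0;
      (g : Matrix (Fin 2) (Fin 2) F) 1 0, (g : Matrix (Fin 2) (Fin 2) F) 1 1, 0; 0, 0, 1], by
    have h := g.2
    rw [Matrix.det_fin_two] at h
    simp [Matrix.det_fin_three, h]⟩
  map_one' := by
    apply Subtype.ext
    ext i j
    fin_cases i <;> fin_cases j <;> simp
  map_mul' g h := by
    apply Subtype.ext
    change (!![(g.1 * h.1) 0 0, (g.1 * h.1) 0 1, 0; (g.1 * h.1) 1 0, (g.1 * h.1) 1 1, 0; 0, 0, 1] : Matrix (Fin 3) (Fin 3) F) =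
      !![g.1 0 0, g.1 0 1, 0; g.1 1 0, g.1 1 1, 0; 0, 0, 1] * !![h.1 0 0, h.1 0 1, 0; h.1 1 0, h.1 1 1, 0; 0, 0, 1]
    ext i j
    fin_cases i <;> fin_cases j <;> simp [Matrix.mul_apply, Fin.sum_univ_two, Fin.sum_univ_three]

theorem coe_corner (g : SL(2, F)) : (corner F g : Matrix (Fin 3) (Fin 3) F) =
    !![(g : Matrix (Fin 2) (Fin 2) F) 0 0, (g : Matrix (Fin 2) (Fin 2) F) 0 1, 0;
      (g : Matrix (Fin 2) (Fin 2) F) 1 0, (g : Matrix (Fin 2) (Fin 2) F) 1 1, 0; 0, 0, 1] := rfl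

end corner

/-- the elements `x_t n` over the field with two elements -/
def xn (t : ZMod 2) : SL(3, ZMod 2) := ⟨!![-t, 1, 0; -1, 0, 0; 0, 0, 1], by revert t; decide⟩

def z0 : SL(3, ZMod 2) := ⟨!![1, 0, 0; 0, 1, 1; 1, 1, 0], by decide⟩

def w0 : SL(3, ZMod 2) := ⟨!![1, 0, 1; 0, 1, 1; 0, 0, 1], by decide⟩

def z1 : SL(3, ZMod 2) := ⟨!![0, 1, 0; 1, 1, 0; 0, 0, 1], by decide⟩

def w1 : SL(3, ZMod 2) := ⟨!![0, 1, 0; 1, 0, 0; 0, 0, 1], by decide⟩

theorem exists_three_zmod : ∀ t : ZMod 2, ∃ z w : SL(3, ZMod 2), z ^ 3 = 1 ∧ z ≠ 1 ∧ xn t = z * (w * z⁻¹ * w⁻¹) := by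
  intro t
  have ht : t = 0 ∨ t = 1 := by revert t; decide
  rcases ht with rfl | rfl
  · exact ⟨z0, w0, by decide, by decide, by decide⟩
  · exact ⟨z1, w1, by decide, by decide, by decide⟩

variable {F : Type*} [Field F]

/-- **characteristic two: `x_t n`, `t = 0, 1`, in `SL_3(F)`** -/
theorem exists_three [CharP F 2] {t : F} (ht : t = 0 ∨ t = 1) {y : SL(3, F)}
    (hy : (y : Matrix (Fin 3) (Fin 3) F) = !![-t, 1, 0; -1, 0, 0; 0, 0, 1]) :
    ∃ z w : SL(3, F), orderOf z = 3 ∧ y = z * (w * z⁻¹ * w⁻¹) := by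
  have : Fact (Nat.Prime 3) := ⟨Nat.prime_three⟩
  let f : ZMod 2 →+* F := ZMod.castHom (dvd_refl 2) F
  have hf : Function.Injective f := RingHom.injective f
  let φ : SL(3, ZMod 2) →* SL(3, F) := SpecialLinearGroup.map f
  have hφ : Function.Injective φ := by
    intro a b hab
    apply Subtype.ext
    ext i j
    apply hf
    have h1 : ((φ a : SL(3, F)) : Matrix (Fin 3) (Fin 3) F) i j = ((φ b : SL(3, F)) : Matrix (Fin 3) (Fin 3) F) i j := by
      rw [hab]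
    exact h1
  obtain ⟨t', ht'⟩ : ∃ t' : ZMod 2, f t' = t := by
    rcases ht with rfl | rfl
    · exact ⟨0, map_zero f⟩
    · exact ⟨1, map_one f⟩
  obtain ⟨z, w, h1, h2, h3⟩ := exists_three_zmod t'
  have h4 : y = φ (xn t') := by
    apply Subtype.ext
    change (y : Matrix (Fin 3) (Fin 3) F) = (!![-t', 1, 0; -1, 0, 0; 0, 0, 1] : Matrix (Fin 3) (Fin 3) (ZMod 2)).map f
    rw [hy, ← ht']
    ext i j
    fin_cases i <;> fin_cases j <;> simp
    all_goals exact CharTwo.neg_eq _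
  refine ⟨φ z, φ w, ?_, ?_⟩
  · apply orderOf_eq_prime
    · rw [← map_pow, h1, map_one]
    · intro h
      exact h2 (hφ (h.trans (map_one φ).symm))
  · rw [h4, h3, map_mul, map_mul, map_mul, map_inv, map_inv]

/-- the same in the form with the corner embedding of `SL_2(F)` -/
theorem exists_three_corner [CharP F 2] {t : F} (ht : t = 0 ∨ t = 1) {y : SL(2, F)}
    (hy : (y : Matrix (Fin 2) (Fin 2) F) = !![-t, 1; -1, 0]) :
    ∃ z w : SL(3, F), orderOf z = 3 ∧ corner F y = z * (w * z⁻¹ * w⁻¹) := by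
  refine exists_three ht ?_
  rw [coe_corner, hy]
  rfl

end Cfsg.Agent.H175.DP
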